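import Groth.Agent.SubAvoid14.IdealMul
import Groth.Agent.S9523
import Groth.Agent.SDiv28.GenFreeRank
import Groth.Agent.Coherent.CohBC.LocalModules
import Groth.Agent.Coherent.CohBC.HomSheaf
import Groth.Agent.DCat.ProjPerfMap
import Groth.Agent.KZeroLib.SigmaCoh

/-!
# Finite surjective morphisms of integral schemes at the generic point
-/

set_option autoImplicit false
set_option backward.isDefEq.respectTransparency false
set_option maxHeartbeats 800000

universe u

open CategoryTheory CategoryTheory.Limits AlgebraicGeometry Opposite TopologicalSpace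
open Groth.Agent.Coherent

namespace Groth.Agent.FinPush14

variable {X Y : Scheme.{u}}

theorem nonempty_restrict_free_of_le {M : Y.Modules} {U V : Y.Opens} (h : V ≤ U) {r : ℕ}
    (e : M.restrict U.ι ≅ FlatMod.freeMod U.toScheme r) :
    Nonempty (M.restrict V.ι ≅ FlatMod.freeMod V.toScheme r) :=
  ⟨((Scheme.Modules.restrictFunctorCongr (Y.homOfLE_ι h)).symm ≪≫
      Scheme.Modules.restrictFunctorComp (Y.homOfLE h) U.ι).app M ≪≫
    (Scheme.Modules.restrictFunctor (Y.homOfLE h)).mapIso e ≪≫ CohBC.freeModRestrictIso _ r⟩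

variable (f : X ⟶ Y) [IsFinite f] [Surjective f] [IsIntegral Y] [IsLocallyNoetherian Y]

/-- A positive rank for the pushforward of the structure sheaf, on an open containing the generic point. -/
theorem exists_open_push_free :
    ∃ (r : ℕ) (U : Y.Opens), 0 < r ∧ genericPoint Y ∈ U ∧
      Nonempty (((Coh.push f).obj (Coh.structureModule X)).restrict U.ι ≅ FlatMod.freeMod U.toScheme r) := by
  haveI : IsLocallyNoetherian X := LocallyOfFiniteType.isLocallyNoetherian f
  have hE : Coh.IsCoh ((Coh.push f).obj (Coh.structureModule X)) :=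
    isCoh_push_finite f (isCoh_structureModule X)
  obtain ⟨U, hU, ⟨e⟩⟩ := SDiv28.GenRank.exists_open_free _ hE.1 hE.2
  have hη : genericPoint Y ∈ U := ((genericPoint_spec Y).mem_open_set_iff U.2).2 (by simpa using hU)
  refine ⟨_, U, Nat.pos_of_ne_zero fun h0 => ?_, hη, ⟨e⟩⟩
  have hz : IsZero (((Coh.push f).obj (Coh.structureModule X)).restrict U.ι) := by
    refine IsZero.of_iso ?_ e
    rw [IsZero.iff_id_eq_zero]
    refine Limits.Sigma.hom_ext _ _ fun i => ?_
    exact (Fin.cast h0 i).elim0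
  have h1 := congrArg (fun (φ : ((Coh.push f).obj (Coh.structureModule X)).restrict U.ι ⟶ _) =>
    φ.app ⊤ (1 : Γ(X, f ⁻¹ᵁ (U.ι ''ᵁ ⊤)))) (hz.eq_of_src (𝟙 _) 0)
  obtain ⟨x, hx⟩ := f.surjective (genericPoint Y)
  haveI : Nonempty (f ⁻¹ᵁ (U.ι ''ᵁ ⊤) : X.Opens) :=
    ⟨⟨x, show f x ∈ U.ι ''ᵁ ⊤ by rw [hx, U.ι_image_top]; exact hη⟩⟩
  exact one_ne_zero (α := Γ(X, f ⁻¹ᵁ (U.ι ''ᵁ ⊤))) h1

/-- `f_* G → F^r`, an isomorphism at the generic point. -/
theorem exists_push_to_power [IsNoetherian Y] (F : Y.Modules) (hF : Coh.IsCoh F) :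
    ∃ (r : ℕ) (G : X.Modules) (β : (Coh.push f).obj G ⟶ ∐ fun _ : Fin r => F),
      0 < r ∧ Coh.IsCoh G ∧
      Function.Bijective ((DerSch.stalkFunctor Y (genericPoint Y)).map β) := by
  haveI := hF.1
  haveI : IsLocallyNoetherian X := LocallyOfFiniteType.isLocallyNoetherian f
  haveI := Coherent.hasFiniteBiproducts X
  haveI := Coherent.hasFiniteBiproducts Y
  let η := genericPoint Y
  obtain ⟨r, Ua, hr, hηa, ⟨ea⟩⟩ := exists_open_push_free f
  obtain ⟨Ub, hUb, ⟨eb⟩⟩ := SDiv28.GenRank.exists_open_free F hF.1 hF.2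
  let n := Module.finrank (Y.presheaf.stalk η) (F.presheaf.stalk η)
  have hηb : η ∈ Ub := ((genericPoint_spec Y).mem_open_set_iff Ub.2).2 (by simpa using hUb)
  let U := Ua ⊓ Ub
  have hηU : η ∈ U := ⟨hηa, hηb⟩
  obtain ⟨eE⟩ := nonempty_restrict_free_of_le (inf_le_left : U ≤ Ua) ea
  obtain ⟨eF⟩ := nonempty_restrict_free_of_le (inf_le_right : U ≤ Ub) eb
  let P := Coh.push f
  let R := Scheme.Modules.restrictFunctor U.ι
  haveI : PreservesColimitsOfSize.{0, 0} R :=
    (Scheme.Modules.restrictAdjunction U.ι).leftAdjoint_preservesColimits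
  let G₀ := FlatMod.freeMod X n
  let Fr : Y.Modules := ∐ fun _ : Fin r => F
  let O := Coh.structureModule U.toScheme
  let φ₀ : R.obj (P.obj G₀) ⟶ R.obj Fr :=
    (R.mapIso (PreservesCoproduct.iso P fun _ : Fin n => Coh.structureModule X) ≪≫
      PreservesCoproduct.iso R (fun _ : Fin n => P.obj (Coh.structureModule X)) ≪≫
      Limits.Sigma.mapIso (fun _ : Fin n => eE) ≪≫
      sigmaSigmaIso (fun _ : Fin n => Fin r) (fun _ _ => O) ≪≫
      Limits.Sigma.whiskerEquiv
        ((Equiv.sigmaEquivProd (Fin n) (Fin r)).trans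
          ((Equiv.prodComm (Fin n) (Fin r)).trans (Equiv.sigmaEquivProd (Fin r) (Fin n)).symm))
        (fun _ => Iso.refl O) ≪≫
      (sigmaSigmaIso (fun _ : Fin r => Fin n) (fun _ _ => O)).symm ≪≫
      Limits.Sigma.mapIso (fun _ : Fin r => eF.symm) ≪≫
      (PreservesCoproduct.iso R fun _ : Fin r => F).symm).hom
  haveI : IsIso φ₀ := inferInstanceAs (IsIso (Iso.hom _))
  have hG₀ : Coh.IsCoh G₀ := CohBC.isCoh_of_isFinLocFree (DCat.ProjPerf.isFinLocFree_freeMod n)
  have hPG₀ : Coh.IsCoh (P.obj G₀) := isCoh_push_finite f hG₀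
  have hFr : Coh.IsCoh Fr := KZeroLib.isCoh_sigma_finite ⟨inferInstance⟩ _ fun _ => hF
  obtain ⟨F', ι, φ', hι, hF', hιU, hφ'⟩ :=
    SubAvoid14.exists_hom_extension (P.obj G₀) Fr hPG₀ hFr U φ₀
  haveI := hι
  haveI := hιU
  haveI : IsIso (R.map φ') := by rw [hφ']; infer_instance
  have hQ : Coh.IsCoh (cokernel ι) := isCoh_cokernel ι hF'.1 hPG₀
  let J := annSheaf hQ.1 hQ.2
  have hJ : η ∉ (J.support : Set Y) := by
    rw [support_annSheaf]
    exact fun h => SubAvoid14.support_cokernel_subset (T := (U : Set Y)ᶜ) ι (fun z hz =>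
      (SubAvoid14.bijective_of_isIso_restrict ι U (not_not.1 hz)).2) h hηU
  obtain ⟨b, hb⟩ := SubAvoid14.exists_lift_idealMul J ι (killed_annSheaf hQ.1 hQ.2)
  haveI := hG₀.1
  obtain ⟨e, he⟩ := Groth.Agent.S9523.result f G₀ hG₀.1 J
  refine ⟨r, (Dual3.idealMul (J.comap f)).obj G₀, e.inv ≫ b ≫ φ', hr, ?_, ?_⟩
  · refine isCoh_of_mono (Dual3.idealMulι (J.comap f) G₀) hG₀ ?_
    haveI := EGA43.InjFibre.isQCoh_pullback (J.comap f).subschemeι G₀
    haveI := Coherent.isQCoh_push (J.comap f).subschemeι ((Scheme.Modules.pullback (J.comap f).subschemeι).obj G₀)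
    haveI : Coh.IsQCoh ((𝟭 X.Modules).obj G₀) := hG₀.1
    haveI : Coh.IsQCoh ((Scheme.Modules.pullback (J.comap f).subschemeι ⋙ Scheme.Modules.pushforward (J.comap f).subschemeι).obj G₀) :=
      ‹Coh.IsQCoh ((Coh.push (J.comap f).subschemeι).obj ((Scheme.Modules.pullback (J.comap f).subschemeι).obj G₀))›
    exact isQCoh_kernel _
  · let S := DerSch.stalkFunctor Y η
    haveI : IsIso (S.map φ') :=
      (ConcreteCategory.isIso_iff_bijective _).2 (SubAvoid14.bijective_of_isIso_restrict φ' U hηU)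
    haveI : IsIso (S.map ι) :=
      (ConcreteCategory.isIso_iff_bijective _).2 (SubAvoid14.bijective_of_isIso_restrict ι U hηU)
    haveI : IsIso (S.map (b ≫ ι)) := by
      rw [hb]
      exact (ConcreteCategory.isIso_iff_bijective _).2 (SubAvoid14.bijective_stalk_idealMulι J _ hJ)
    haveI : IsIso (S.map b) := by
      have : IsIso (S.map b ≫ S.map ι) := by rw [← Functor.map_comp]; infer_instance
      exact IsIso.of_isIso_comp_right (S.map b) (S.map ι)
    haveI : IsIso (S.map (e.inv ≫ b ≫ φ')) := by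
      rw [Functor.map_comp, Functor.map_comp]; infer_instance
    exact ConcreteCategory.bijective_of_isIso _

end Groth.Agent.FinPush14
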