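import Groth.Agent.FinPush14.Generic
import Groth.Agent.Coherent.SubFTApps
import Groth.Agent.Props12.FinLocFree

/-!
# `O_Y^r → f_* M`, an isomorphism at the generic point
-/

set_option autoImplicit false
set_option backward.isDefEq.respectTransparency false
set_option maxHeartbeats 800000

universe u

open CategoryTheory CategoryTheory.Limits AlgebraicGeometry Opposite TopologicalSpace
open Groth.Agent.Coherent

namespace Groth.Agent.FinPush14

variable {X Y : Scheme.{u}}

theorem isIso_map_of_eq (M : X.Modules) {A B : X.Opens} (h : A ≤ B) (he : A = B) :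
    Function.Bijective (resM M h) := by
  subst he
  have : (fun a => resM M h a) = (fun a => a) := funext fun a => resM_refl M a
  exact ⟨fun a b hab => by simpa [resM_refl] using hab, fun a => ⟨a, resM_refl M a⟩⟩

/-- The unit of restriction is bijective on sections over opens inside the open. -/
theorem bijective_unit_app (M : X.Modules) (V : X.Opens) {W : X.Opens} (hW : W ≤ V) :
    Function.Bijective (((Scheme.Modules.restrictAdjunction V.ι).unit.app M).app W) :=
  isIso_map_of_eq M (V.ι.image_preimage_le W)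
    (by rw [Scheme.Hom.image_preimage_eq_opensRange_inf, Scheme.Opens.opensRange_ι]; exact inf_eq_right.2 hW)

variable (f : X ⟶ Y) [IsFinite f] [Surjective f] [IsIntegral Y] [IsNoetherian Y]

theorem exists_free_to_push :
    ∃ (r : ℕ) (M : X.Modules) (α : FlatMod.freeMod Y r ⟶ (Coh.push f).obj M),
      0 < r ∧ Coh.IsCoh M ∧
      Function.Bijective ((DerSch.stalkFunctor Y (genericPoint Y)).map α) := by
  haveI : IsLocallyNoetherian X := LocallyOfFiniteType.isLocallyNoetherian f
  haveI : CompactSpace X := QuasiCompact.compactSpace_of_compactSpace f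
  obtain ⟨r, U, hr, hηU, ⟨e⟩⟩ := exists_open_push_free f
  let V : X.Opens := f ⁻¹ᵁ U
  let O := Coh.structureModule X
  let P := Coh.push f
  let R := Scheme.Modules.restrictFunctor U.ι
  let adjY := Scheme.Modules.restrictAdjunction U.ι
  let adjX := Scheme.Modules.restrictAdjunction V.ι
  let N : X.Modules := (Coh.push V.ι).obj (O.restrict V.ι)
  haveI : Coh.IsQCoh O := Coherent.isQCoh_structureModule (X := X)
  haveI : Coh.IsQCoh (O.restrict V.ι) :=
    inferInstanceAs ((Scheme.Modules.restrictFunctor V.ι).obj O).IsQuasicoherent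
  haveI : Coh.IsQCoh N := isQCoh_push V.ι _
  let η₁ : O ⟶ N := adjX.unit.app O
  -- sections of `f_* N` do not change on restriction to `U`
  haveI hPN : IsIso (adjY.unit.app (P.obj N)) := Scheme.Modules.Hom.isIso_iff_isIso_app.2 fun W => by
    refine (ConcreteCategory.isIso_iff_bijective _).2 ?_
    refine isIso_map_of_eq O
      (V.ι.image_mono (V.ι.preimage_mono (f.preimage_mono (U.ι.image_preimage_le W)))) ?_
    rw [Scheme.Hom.image_preimage_eq_opensRange_inf, Scheme.Hom.image_preimage_eq_opensRange_inf,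
      Scheme.Hom.image_preimage_eq_opensRange_inf, Scheme.Opens.opensRange_ι, Scheme.Opens.opensRange_ι,
      Scheme.Hom.preimage_inf]
    exact (inf_assoc _ _ _).symm.trans (by rw [inf_idem])
  haveI hη₁ : IsIso (R.map (P.map η₁)) := Scheme.Modules.Hom.isIso_iff_isIso_app.2 fun W =>
    (ConcreteCategory.isIso_iff_bijective _).2
      (bijective_unit_app O V (f.preimage_mono (U.ι_image_le W)))
  let φ₀ : R.obj (FlatMod.freeMod Y r) ⟶ R.obj (P.obj N) :=
    (CohBC.freeModRestrictIso U.ι r).hom ≫ e.inv ≫ R.map (P.map η₁)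
  haveI : IsIso φ₀ :=
    inferInstanceAs (IsIso ((CohBC.freeModRestrictIso U.ι r).hom ≫ e.inv ≫ R.map (P.map η₁)))
  let δ : FlatMod.freeMod Y r ⟶ P.obj N := adjY.homEquiv _ _ φ₀ ≫ inv (adjY.unit.app (P.obj N))
  have hδ : R.map δ = φ₀ := by
    refine (adjY.homEquiv _ _).injective ?_
    rw [Adjunction.homEquiv_unit]
    refine (adjY.unit.naturality δ).symm.trans ?_
    show (adjY.homEquiv _ _ φ₀ ≫ inv (adjY.unit.app (P.obj N))) ≫ adjY.unit.app (P.obj N) = _
    rw [Category.assoc, IsIso.inv_hom_id, Category.comp_id]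
  let one : Γ(N, (⊤ : X.Opens)) := η₁.app ⊤ (1 : Γ(X, ⊤))
  let s : Fin r → Γ(N, (⊤ : X.Opens)) := fun k =>
    unitVal (Limits.Sigma.ι (fun _ : Fin r => Coh.structureModule Y) k ≫ δ) ⊤
  let fam : ULift.{u} (Option (Fin r)) → Γ(N, (⊤ : X.Opens)) := fun o => o.down.elim one s
  obtain ⟨Q, hQ, hmem⟩ := exists_good_containing_qcqs (F := N) (U := (⊤ : X.Opens)) isCompact_univ fam
  let M := Q.toMod
  have hM : Coh.IsCoh M := ⟨SubM.isQCoh hQ, SubM.isFT hQ⟩
  let t : Fin r → Γ(P.obj M, (⊤ : Y.Opens)) := fun k => ⟨s k, hmem ⟨some k⟩⟩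
  let α : FlatMod.freeMod Y r ⟶ P.obj M := Limits.Sigma.desc fun k => unitDesc (P.obj M) (t k)
  have hα : α ≫ P.map Q.toι = δ := by
    refine Limits.Sigma.hom_ext _ _ fun k => ?_
    rw [← Category.assoc, Limits.Sigma.ι_desc]
    refine Scheme.Modules.hom_ext _ _ fun W => ?_
    ext a
    refine (app_unit (unitDesc (P.obj M) (t k) ≫ P.map Q.toι) a).trans
      (Eq.trans ?_ (app_unit (Limits.Sigma.ι (fun _ : Fin r => Coh.structureModule Y) k ≫ δ) a).symm)
    let a' : Γ(Y, W) := a
    refine congrArg (fun z : Γ(P.obj N, W) => a' • z) ?_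
    rw [← resM_unitVal _ (le_top : W ≤ ⊤), ← resM_unitVal _ (le_top : W ≤ ⊤)]
    refine congrArg (resM _ _) ?_
    show (P.map Q.toι).app ⊤ (unitVal (unitDesc (P.obj M) (t k)) ⊤) = _
    rw [unitVal_unitDesc, resM_refl]
    rfl
  -- on the open, `M` is everything
  have hsurj : ∀ W : X.Opens, W ≤ V → Function.Surjective (Q.toι.app W) := fun W hW z => by
    obtain ⟨a, ha⟩ := (bijective_unit_app O V hW).2 z
    refine ⟨⟨z, ?_⟩, rfl⟩
    rw [← ha]
    let a' : Γ(X, W) := a
    have h1 : η₁.app W a = a' • resM N le_top one := by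
      refine (app_unit η₁ a).trans (congrArg (fun z : Γ(N, W) => a' • z) ?_)
      exact (resM_unitVal η₁ le_top).symm
    show η₁.app W a ∈ Q.carrier W
    rw [h1]
    exact Submodule.smul_mem _ _ (Q.res le_top (hmem ⟨none⟩))
  haveI : IsIso (R.map (P.map Q.toι)) := Scheme.Modules.Hom.isIso_iff_isIso_app.2 fun W =>
    (ConcreteCategory.isIso_iff_bijective _).2
      ⟨Q.toι_injective _, hsurj _ (f.preimage_mono (U.ι_image_le W))⟩
  haveI : IsIso (R.map α) := by
    have h : R.map α ≫ R.map (P.map Q.toι) = φ₀ := by rw [← R.map_comp, hα, hδ]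
    exact IsIso.of_isIso_fac_right h
  exact ⟨r, M, α, hr, hM, SubAvoid14.bijective_of_isIso_restrict α U hηU⟩

end Groth.Agent.FinPush14
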